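import Cfsg.Prelude.Def_FischerSpaces

/-!
The part of the definition of type M(22) used in the proof that such a group is the presented group Fi22.
-/

set_option autoImplicit false

namespace CfsgLib.Fischer

/-- The centre is trivial and some member has a local group `PSU₆(2)` modulo its centre. -/
def Pre22 (G : Type*) [Group G] (D : Set G) : Prop :=
  Subgroup.center G = ⊥ ∧ ∃ d ∈ D, ∃ c ∈ D, ¬ Commute d c ∧
    (∃ (F : Type) (_ : Field F) (_ : Fintype F), Fintype.card F = 4 ∧
      Nonempty (↥(Subgroup.closure {y : G | y ∈ D ∧ y ≠ d ∧ Commute d y}) ⧸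
        Subgroup.center ↥(Subgroup.closure {y : G | y ∈ D ∧ y ≠ d ∧ Commute d y}) ≃* Cfsg.PSU 6 F 2)) ∧
    True

end CfsgLib.Fischer
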