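import Cfsg.Agent.Lib.Fischer.TypeTwentyTwo
import Cfsg.Agent.Lib.Fischer.Transitivity
import Cfsg.Agent.Lib.Fischer2.UnitarySixModel
import Cfsg.Agent.Lib.Fischer.TypeTwentyTwoInvolutions
import Cfsg.Agent.Lib.Fischer.Pre22.Basic
import Cfsg.Agent.Lib.Fischer.Pre22.TypeTwentyTwo

/-!
The statements of `Fischer.TypeTwentyTwoInvolutions` needed for the uniqueness of Fi22, for the weaker hypothesis `Pre22`.
-/

set_option autoImplicit false
set_option linter.all false

namespace CfsgLib.Fischer.Pre22

open CfsgLib.Fischer CfsgLib.Fischer.TypeTwentyTwo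

open CfsgLib.Fischer CfsgLib.InvChar.FischerProducts CfsgLib.InvChar.FischerHexad

open CfsgLib.InvChar.UnitaryTVTwo CfsgLib.Fischer.UnitaryHyperoval

variable {G : Type*} [Group G] [Finite G] {D : Set G}

variable (hD : Cfsg.IsThreeTranspositionGroup D) (hprim : Cfsg.IsPrimitiveUnderConj D)
  (ht : Pre22 G D)

include hD hprim ht

theorem ncard_perp {d : G} (hd : d ∈ D) : (perp D d).ncard = 693 := by
  obtain ⟨F, _, _, hF, ⟨e⟩⟩ := exists_equiv_of_type22 hD hprim ht hd
  exact ncard_perp_of_equiv (good_of_primitive hD hprim ht.1) hd rfl hF e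

theorem commutator_eq_top : commutator G = ⊤ := by
  have := isSimple hD hprim ht
  rcases IsSimpleGroup.eq_bot_or_eq_top_of_normal (commutator G) inferInstance with h | h
  · exfalso
    obtain ⟨d, hd, -⟩ := id hprim.2.1
    refine ne_one hD.1 hd (Subgroup.mem_bot.1 (ht.1 ▸ Subgroup.mem_center_iff.2 fun g => ?_))
    have := Subgroup.commutator_mem_commutator (Subgroup.mem_top g) (Subgroup.mem_top d)
    rw [← commutator_def, h, Subgroup.mem_bot] at this
    exact commutatorElement_eq_one_iff_mul_comm.1 this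
  · exact h

/-- The number of members commuting with an involution is congruent to the class size modulo 4. -/
theorem ncard_commute_mod_four {x : G} (hx : x * x = 1) :
    {y : G | y ∈ D ∧ Commute x y}.ncard % 4 = D.ncard % 4 := by
  classical
  have : Fintype D := Fintype.ofFinite D
  set σ := conjPerm hD x with hσdef
  have hσ : σ ^ 2 = 1 := by rw [hσdef, ← map_pow, pow_two, hx, map_one]
  have hs : Equiv.Perm.sign σ = 1 := by
    have hmem : x ∈ commutator G := commutator_eq_top hD hprim ht ▸ Subgroup.mem_top x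
    exact Abelianization.commutator_subset_ker (Equiv.Perm.sign.comp (conjPerm hD)) hmem
  rw [Equiv.Perm.sign_of_pow_two_eq_one hσ] at hs
  have hfix : Fintype.card (Function.fixedPoints σ) = {y : G | y ∈ D ∧ Commute x y}.ncard := by
    rw [← Nat.card_eq_fintype_card, Nat.card_coe_set_eq,
      ← Set.ncard_image_of_injective _ Subtype.val_injective]
    congr 1
    ext y
    constructor
    · rintro ⟨z, hz, rfl⟩
      exact ⟨z.2, mul_inv_eq_iff_eq_mul.1 (congrArg Subtype.val hz)⟩
    · rintro ⟨hy, hxy⟩
      exact ⟨⟨y, hy⟩, Subtype.ext (mul_inv_eq_iff_eq_mul.2 hxy.eq), rfl⟩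
  have heven : Even ((Fintype.card D - Fintype.card (Function.fixedPoints σ)) / 2) := by
    rcases Nat.even_or_odd ((Fintype.card D - Fintype.card (Function.fixedPoints σ)) / 2) with h | h
    · exact h
    · rw [h.neg_one_pow] at hs
      exact absurd hs (by decide)
  have hpar := Equiv.Perm.card_compl_support_modEq (p := 2) (n := 1) (σ := σ) (by rwa [pow_one])
  have hsupp : σ.supportᶜ.card = Fintype.card (Function.fixedPoints σ) := by
    rw [← Nat.card_eq_fintype_card, Nat.card_coe_set_eq, ← Set.ncard_coe_finset]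
    congr 1
    ext y
    simp [Function.IsFixedPt]
  have hle : Fintype.card (Function.fixedPoints σ) ≤ Fintype.card D := Fintype.card_subtype_le _
  rw [hsupp] at hpar
  obtain ⟨k, hk⟩ := heven
  have hD' : D.ncard = Fintype.card D := by rw [← Nat.card_coe_set_eq, Nat.card_eq_fintype_card]
  rw [Nat.ModEq] at hpar
  omega

theorem ncard_mod_four : D.ncard % 4 = 2 := by
  obtain ⟨d, hd, -⟩ := id hprim.2.1
  rw [← ncard_commute_mod_four hD hprim ht (sq_eq_one hD.1 hd)]
  have e : {y : G | y ∈ D ∧ Commute d y} = insert d (perp D d) := by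
    ext y
    constructor
    · rintro ⟨hy, hc⟩
      by_cases h : y = d
      · exact Or.inl h
      · exact Or.inr ⟨hy, h, hc⟩
    · rintro (rfl | h)
      · exact ⟨hd, Commute.refl _⟩
      · exact ⟨h.1, h.2.2⟩
  rw [e, Set.ncard_insert_of_notMem (fun h => h.2.1 rfl), ncard_perp hD hprim ht hd]

end CfsgLib.Fischer.Pre22
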