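import Cfsg.Agent.Lib.Fischer.TypeTwentyTwoCentralizer
import Cfsg.Agent.Lib.Fischer.SRGTrace
import Cfsg.Agent.Lib.Fischer.TypeTwentyTwoCount
import Cfsg.Agent.Lib.Fischer.Pre22.Basic
import Cfsg.Agent.Lib.Fischer.Pre22.TypeTwentyTwoCentralizer

/-!
The statements of `Fischer.TypeTwentyTwoCount` needed for the uniqueness of Fi22, for the weaker hypothesis `Pre22`.
-/

set_option autoImplicit false
set_option linter.all false

namespace CfsgLib.Fischer.Pre22

open CfsgLib.Fischer CfsgLib.Fischer.TypeTwentyTwo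

open CfsgLib.Fischer CfsgLib.InvChar.FischerProducts CfsgLib.InvChar.FischerHexad

open CfsgLib.InvChar.UnitaryTVTwo CfsgLib.Fischer.UnitaryHyperoval CfsgLib.Fischer.UnitarySemilinear

variable {G : Type*} [Group G] [Finite G] {D : Set G}

variable (hD : Cfsg.IsThreeTranspositionGroup D) (hprim : Cfsg.IsPrimitiveUnderConj D)
  (ht : Pre22 G D)

include hD hprim ht

/-- The members not commuting with `d` form one orbit. -/
theorem mem_perpOrbit {d x y : G} (hd : d ∈ D) (hx : x ∈ D) (hy : y ∈ D) (hdx : ¬ Commute d x)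
    (hdy : ¬ Commute d y) : y ∈ perpOrbit D d x := by
  by_contra horb
  have hxy : ¬ Commute x y := fun k => horb (orbit_of_commute hD hd hx hy hdx hdy k)
  have hG := good_of_primitive hD hprim ht.1
  have hconn := connected hD hprim ht
  have main : ∀ x y : G, x ∈ D → y ∈ D → ¬ Commute d x → ¬ Commute d y → ¬ Commute x y → y ∉ perpOrbit D d x →
      common D d x ⊆ common D d y → False := by
    intro x y hx hy hdx hdy hxy horb hsub
    obtain ⟨f, hf⟩ := common_nonempty hD hd hconn hx hdx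
    obtain ⟨hfD, hfd, hdf, hxf⟩ := hf
    have hyf : Commute y f := (hsub ⟨hfD, hfd, hdf, hxf⟩).2.2.2
    obtain ⟨F, _, _, hF, ⟨e⟩⟩ := exists_equiv_of_type22 hD hprim ht hfD
    let H : Subgroup G := Subgroup.closure (perp D f)
    obtain ⟨hT, hconj⟩ := image_tt hG hfD (H := H) rfl e
    have hdp : d ∈ perp D f := ⟨hd, Ne.symm hfd, hdf.symm⟩
    have hxp : x ∈ perp D f := ⟨hx, fun k => hdx (k ▸ hdf), hxf.symm⟩
    have hyp : y ∈ perp D f := ⟨hy, fun k => hdy (k ▸ hdf), hyf.symm⟩
    let d₁ : H := ⟨d, Subgroup.subset_closure hdp⟩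
    let x₁ : H := ⟨x, Subgroup.subset_closure hxp⟩
    let y₁ : H := ⟨y, Subgroup.subset_closure hyp⟩
    obtain ⟨u, hu, hu0, hde⟩ := exists_pv_of_mem hF (by norm_num) hT hconj ⟨d₁, hdp, rfl⟩
    obtain ⟨v, hv, hv0, hxe⟩ := exists_pv_of_mem hF (by norm_num) hT hconj ⟨x₁, hxp, rfl⟩
    obtain ⟨r, hr, hr0, hye⟩ := exists_pv_of_mem hF (by norm_num) hT hconj ⟨y₁, hyp, rfl⟩
    have hcm : ∀ {a b : H} {s t : Fin 6 → F} (hs : Cfsg.hermForm 6 F 2 s s = 0)
        (ht' : Cfsg.hermForm 6 F 2 t t = 0), a ∈ memberSet D f H → b ∈ memberSet D f H →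
        quotMap e a = pv hF s hs → quotMap e b = pv hF t ht' → Cfsg.hermForm 6 F 2 s t = 0 →
        Commute (a : G) b := by
      intro a b s t hs ht' ha hb ea eb k
      refine commute_of_quotMap hG hfD (H := H) rfl e ha hb ?_
      rw [ea, eb]
      exact (tv_commute hF hs ht' k).map (QuotientGroup.mk' _)
    have huv : Cfsg.hermForm 6 F 2 u v ≠ 0 := fun k => hdx (hcm hu hv (a := d₁) (b := x₁) hdp hxp hde hxe k)
    have hru : Cfsg.hermForm 6 F 2 r u ≠ 0 := fun k =>
      hdy (hcm hr hu (a := y₁) (b := d₁) hyp hdp hye hde k).symm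
    have hperp : ∀ k, Cfsg.hermForm 6 F 2 k k = 0 → Cfsg.hermForm 6 F 2 k u = 0 →
        Cfsg.hermForm 6 F 2 k v = 0 → Cfsg.hermForm 6 F 2 k r = 0 := by
      intro k hk hku hkv
      by_cases hk0 : k = 0
      · subst hk0; exact (conj hF).zero_left _
      obtain ⟨g, hg, hgk⟩ := pv_mem hF (by norm_num) hT hconj ⟨_, d₁, hdp, rfl⟩ hk hk0
      have hgd : Commute (g : G) d := hcm hk hu (b := d₁) hg hdp hgk hde hku
      have hgx : Commute (g : G) x := hcm hk hv (b := x₁) hg hxp hgk hxe hkv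
      have hgy : Commute y (g : G) := (hsub ⟨hg.1, fun c => hdx (c ▸ hgx), hgd.symm, hgx.symm⟩).2.2.2
      refine herm_eq_zero_of_commute hF (by norm_num) hk hr ?_
      rw [← hgk, ← hye]
      exact (show Commute g y₁ from Subtype.ext hgy.symm.eq).map _
    rcases pv_eq_or_conj hF (by norm_num) hu hv hr huv hru hperp with k | k
    · have : y₁ = x₁ := quotMap_inj hG hfD (H := H) rfl e hyp hxp (hye.trans (k.trans hxe.symm))
      exact hxy (by rw [show y = x from congrArg Subtype.val this])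
    · have : y₁ = d₁ * x₁ * d₁⁻¹ := quotMap_inj hG hfD (H := H) rfl e hyp
        ((memberSet_tt hG.tt rfl).2.1 d₁ _ hxp) (hye.trans (k.trans (by rw [map_mul, map_mul, map_inv, hde, hxe])))
      exact horb ⟨d, Subgroup.subset_closure ⟨hd, Commute.refl d⟩, congrArg Subtype.val this⟩
  rcases common_subset_or hD hd hx hy hdx hdy horb with h | h
  · exact main x y hx hy hdx hdy hxy horb h
  · exact main y x hy hx hdy hdx (fun k => hxy k.symm) (fun k => horb (perpOrbit_symm k)) h

/-- Adjacent members have 180 common neighbours. -/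
theorem ncard_common_commute {a w : G} (ha : a ∈ D) (hw : w ∈ perp D a) :
    (perp D a ∩ perp D w).ncard = 180 := by
  have hG := good_of_primitive hD hprim ht.1
  obtain ⟨F, _, _, hF, ⟨e⟩⟩ := exists_equiv_of_type22 hD hprim ht ha
  let H : Subgroup G := Subgroup.closure (perp D a)
  obtain ⟨hT, hconj⟩ := image_tt hG ha (H := H) rfl e
  have hneH := (memberSet_nonempty hD hprim ht ha).image (quotMap e)
  obtain ⟨W, hW, hWe⟩ := pv_mem hF (by norm_num) hT hconj hneH (herm_plane hF (1 : F) 0 0 1 0 0)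
    (plane_ne_zero (Or.inl one_ne_zero))
  obtain ⟨h, hh, hhw⟩ := (local_of_type22 hD hprim ht).trans a ha (W : G) hW w hw
  have hha : Commute h a := (commute_d (H := H) rfl hh).symm
  have himg : perp D a ∩ perp D w = (fun x => h * x * h⁻¹) '' (perp D a ∩ perp D (W : G)) := by
    ext x
    constructor
    · rintro ⟨hx1, hx2⟩
      refine ⟨h⁻¹ * x * h⁻¹⁻¹, ⟨(conj_mem_perp_iff hD hha.inv_left).2 hx1, ?_⟩, by group⟩
      have := CfsgLib.InvChar.FischerHexad.perp_conj hD h⁻¹ hx2
      rwa [MulAut.conj_apply, MulAut.conj_apply, ← hhw, show h⁻¹ * (h * (W : G) * h⁻¹) * h⁻¹⁻¹ = W by group] at this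
    · rintro ⟨y, ⟨hy1, hy2⟩, rfl⟩
      refine ⟨(conj_mem_perp_iff hD hha).2 hy1, ?_⟩
      have := CfsgLib.InvChar.FischerHexad.perp_conj hD h hy2
      rwa [MulAut.conj_apply, MulAut.conj_apply, hhw] at this
  rw [himg, Set.ncard_image_of_injective _ (fun x y k => mul_left_cancel (mul_right_cancel k))]
  have hval : perp D a ∩ perp D (W : G) =
      (Subtype.val : H → G) '' (memberSet D a H ∩ quotMap e ⁻¹' ring' hF) := by
    ext x
    constructor
    · rintro ⟨hxa, hxw⟩
      let y : H := ⟨x, Subgroup.subset_closure hxa⟩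
      obtain ⟨r, hr, hr0, hre⟩ := exists_pv_of_mem hF (by norm_num) hT hconj ⟨y, hxa, rfl⟩
      refine ⟨y, ⟨hxa, r, hr, ?_, fun q hq => ?_, hre.symm⟩, rfl⟩
      · refine herm_eq_zero_of_commute hF (by norm_num) hr (herm_plane hF ..) ?_
        rw [← hre, ← hWe]
        exact (show Commute y W from Subtype.ext hxw.2.2.symm.eq).map _
      · refine hxw.2.1 (congrArg Subtype.val (quotMap_inj hG ha (H := H) rfl e (x := y) hxa hW ?_))
        have hq0 : q ≠ 0 := fun k => hr0 (by rw [hq, k, zero_smul])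
        rw [hre, hWe]
        exact (pv_congr hF hr (by rw [← hq]; exact hr) hq).trans (pv_smul hF hq0 (herm_plane hF ..) _)
    · rintro ⟨y, ⟨hy, r, hr, hrv, hrs, hre⟩, rfl⟩
      refine ⟨hy, hy.1, fun k => ?_, ?_⟩
      · rw [show y = W from Subtype.ext k, hWe] at hre
        obtain ⟨q, hq⟩ := pv_eq_span hF (by norm_num) hr (herm_plane hF ..)
          (fun k => hrs 0 (by rw [k, zero_smul])) hre
        exact hrs q hq
      · refine (commute_of_quotMap hG ha (H := H) rfl e hy hW ?_).symm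
        rw [← hre, hWe]
        exact (tv_commute hF hr (herm_plane hF ..) hrv).map (QuotientGroup.mk' _)
  rw [hval, Set.ncard_image_of_injective _ Subtype.val_injective,
    ← Set.InjOn.ncard_image (f := quotMap e) (fun x hx y hy k => quotMap_inj hG ha (H := H) rfl e hx.1 hy.1 k),
    Set.image_inter_preimage]
  have : quotMap e '' memberSet D a H ∩ ring' hF = ring' hF := by
    refine Set.inter_eq_right.2 ?_
    rintro p ⟨r, hr, -, hrs, rfl⟩
    exact pv_mem hF (by norm_num) hT hconj hneH hr fun k => hrs 0 (by rw [k, zero_smul])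
  rw [this, ncard_ring]

/-- Non-commuting members all have equally many common neighbours. -/
theorem ncard_common_const {d x d' x' : G} (hd : d ∈ D) (hx : x ∈ D) (hdx : ¬ Commute d x) (hd' : d' ∈ D)
    (hx' : x' ∈ D) (hdx' : ¬ Commute d' x') : (common D d x).ncard = (common D d' x').ncard := by
  obtain ⟨g, hg⟩ := hprim.1 d hd d' hd'
  have hdx'' : ¬ Commute d (g⁻¹ * x' * g) := by
    intro k
    have := (conj_commute_iff g _ _).2 k
    rw [hg, show g * (g⁻¹ * x' * g) * g⁻¹ = x' by group] at this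
    exact hdx' this
  have hyD : g⁻¹ * x' * g ∈ D := by simpa using hD.2.1 g⁻¹ x' hx'
  rw [← ncard_common_of_orbit hD (mem_perpOrbit hD hprim ht hd hx hyD hdx hdx'')]
  have himg : common D d' x' = (fun f => g * f * g⁻¹) '' common D d (g⁻¹ * x' * g) := by
    rw [← hg]
    ext f
    constructor
    · rintro ⟨hf, hne, h1, h2⟩
      refine ⟨g⁻¹ * f * g, ⟨by simpa using hD.2.1 g⁻¹ f hf, fun k => hne (by rw [← k]; group), ?_, ?_⟩, by group⟩
      · have := (conj_commute_iff g⁻¹ _ _).2 h1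
        simpa [mul_assoc] using this
      · have := (conj_commute_iff g⁻¹ _ _).2 h2
        simpa [mul_assoc] using this
    · rintro ⟨y, ⟨hy, hne, h1, h2⟩, rfl⟩
      refine ⟨hD.2.1 g y hy, fun k => hne (mul_left_cancel (mul_right_cancel k)), (conj_commute_iff g _ _).2 h1, ?_⟩
      have := (conj_commute_iff g _ _).2 h2
      rwa [show g * (g⁻¹ * x' * g) * g⁻¹ = x' by group] at this
  rw [himg, Set.ncard_image_of_injective _ fun a b k => mul_left_cancel (mul_right_cancel k)]

theorem ncard_eq : D.ncard = 3510 := by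
  classical
  let _ : Fintype G := Fintype.ofFinite G
  let α := {x : G // x ∈ D}
  let R : α → α → Prop := fun x y => (x : G) ≠ y ∧ Commute (x : G) y
  obtain ⟨d₀, hd₀, x₀, hx₀, hne₀⟩ := id hprim.2.1
  haveI : Nonempty α := ⟨⟨d₀, hd₀⟩⟩
  -- counting in `α`
  have hcard : ∀ (p : α → Prop) [DecidablePred p] (S : Set G), (∀ y ∈ S, y ∈ D) →
      (∀ z : α, p z ↔ (z : G) ∈ S) → (Finset.univ.filter p).card = S.ncard := by
    intro p _ S hS hp
    rw [← Set.ncard_coe_finset, ← Set.ncard_image_of_injective _ Subtype.val_injective]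
    congr 1
    ext y
    constructor
    · rintro ⟨z, hz, rfl⟩
      exact (hp z).1 (Finset.mem_filter.1 hz).2
    · intro hy
      exact ⟨⟨y, hS y hy⟩, Finset.mem_filter.2 ⟨Finset.mem_univ _, (hp _).2 hy⟩, rfl⟩
  have hv : Fintype.card α = D.ncard := by
    rw [← Nat.card_coe_set_eq, Nat.card_eq_fintype_card]
  have hdeg : ∀ x : α, (Finset.univ.filter fun z => R x z).card = 693 := by
    intro x
    rw [← ncard_perp hD hprim ht x.2]
    exact hcard _ _ (fun y hy => hy.1) fun z => ⟨fun k => ⟨z.2, Ne.symm k.1, k.2⟩, fun k => ⟨Ne.symm k.2.1, k.2.2⟩⟩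
  -- a non-commuting pair
  obtain ⟨p, hp, hdp⟩ : ∃ p ∈ D, ¬ Commute d₀ p := by
    by_contra hc
    push Not at hc
    have := mem_center hD.2.2 hc
    rw [ht.1, Subgroup.mem_bot] at this
    exact ne_one hD.1 hd₀ this
  obtain ⟨μ, hμdef⟩ : ∃ μ, μ = (common D d₀ p).ncard := ⟨_, rfl⟩
  have hsrg : SRGTrace.IsSRG R 693 180 μ := by
    refine ⟨fun x y k => ⟨Ne.symm k.1, k.2.symm⟩, fun x k => k.1 rfl, hdeg, fun x y k => ?_, fun x y hne k => ?_⟩
    · rw [← ncard_common_commute hD hprim ht x.2 (w := (y : G)) ⟨y.2, Ne.symm k.1, k.2⟩]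
      exact hcard _ _ (fun y hy => hy.1.1) fun z => ⟨fun q => ⟨⟨z.2, Ne.symm q.1.1, q.1.2⟩, z.2, Ne.symm q.2.1, q.2.2⟩,
        fun q => ⟨⟨Ne.symm q.1.2.1, q.1.2.2⟩, Ne.symm q.2.2.1, q.2.2.2⟩⟩
    · have hnc : ¬ Commute (x : G) y := fun c => k ⟨fun q => hne (Subtype.ext q), c⟩
      rw [hμdef, ncard_common_const hD hprim ht hd₀ hp hdp x.2 y.2 hnc]
      exact hcard _ _ (fun y hy => hy.1) fun z => ⟨fun q => ⟨z.2, Ne.symm q.1.1, q.1.2, q.2.2⟩,
        fun q => ⟨⟨Ne.symm q.2.1, q.2.2.1⟩, fun c => hnc (c ▸ q.2.2.1), q.2.2.2⟩⟩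
  have hcount := SRGTrace.count_eq hsrg
  have h4 := ncard_mod_four hD hprim ht
  rw [hv] at hcount
  have hμle : μ ≤ 693 := by
    rw [hμdef, ← ncard_perp hD hprim ht hd₀]
    exact Set.ncard_le_ncard fun z hz => ⟨hz.1, hz.2.1, hz.2.2.1⟩
  obtain ⟨m, hm⟩ : ∃ m, D.ncard = 694 + m := by
    refine ⟨D.ncard - 694, ?_⟩
    have : (insert d₀ (perp D d₀)).ncard ≤ D.ncard :=
      Set.ncard_le_ncard (Set.insert_subset hd₀ fun y hy => hy.1)
    rw [Set.ncard_insert_of_notMem (fun k => k.2.1 rfl), ncard_perp hD hprim ht hd₀] at this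
    omega
  have hμm : μ * m = 354816 := by
    have : (μ : ℚ) * m = 354816 := by
      rw [hm] at hcount
      push_cast at hcount
      linear_combination -hcount
    exact_mod_cast this
  have hμpos : 0 < μ := Nat.pos_of_ne_zero fun k => by simp [k] at hμm
  have hdiv : 354816 / μ = m := by rw [← hμm, Nat.mul_div_cancel_left _ hμpos]
  have hm4 : m % 4 = 0 := by omega
  have hev : Even (Fintype.card α) := by rw [hv, Nat.even_iff]; omega
  have hne : 2 * ((693 : ℕ) : ℚ) - (((180 : ℕ) : ℚ) - μ) ≠ 0 := by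
    push_cast
    have : (0 : ℚ) ≤ (μ : ℚ) := Nat.cast_nonneg μ
    linarith
  have hsq := SRGTrace.disc_isSquare hsrg hev hne
  have hsqZ : IsSquare ((180 - (μ : ℤ)) ^ 2 + 4 * (693 - μ)) := by
    rw [← Rat.isSquare_intCast_iff]
    convert hsq using 1
    push_cast
    ring
  obtain ⟨dz, hdz⟩ := hsqZ
  obtain ⟨dn, hdn⟩ : ∃ dn, dn = dz.natAbs := ⟨_, rfl⟩
  have hdn2 : (dn : ℤ) * dn = (180 - (μ : ℤ)) ^ 2 + 4 * (693 - μ) := by
    rw [hdz, hdn, Int.natAbs_mul_self']
  have hdn0 : dn ≠ 0 := by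
    intro k
    subst k
    simp at hdn2
    nlinarith [sq_nonneg (180 - (μ : ℤ)), Int.ofNat_le.2 hμle]
  have hdQ : (dn : ℚ) * dn = (((180 : ℕ) : ℚ) - μ) ^ 2 + 4 * (((693 : ℕ) : ℚ) - μ) := by
    have := congrArg (Int.cast : ℤ → ℚ) hdn2
    push_cast at this ⊢
    linear_combination this
  -- the product of two commuting members
  obtain ⟨e, he⟩ := perp_nonempty hD hprim ht hd₀
  obtain ⟨j, hjdef⟩ : ∃ j, j = d₀ * e := ⟨_, rfl⟩
  have hjd : Commute j d₀ := hjdef ▸ (Commute.refl d₀).mul_left he.2.2.symm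
  have hje : Commute j e := hjdef ▸ he.2.2.mul_left (Commute.refl e)
  have hj2 : j * j = 1 := by
    rw [hjdef, show d₀ * e * (d₀ * e) = d₀ * (e * d₀) * e by group, ← he.2.2.eq,
      show d₀ * (d₀ * e) * e = (d₀ * d₀) * (e * e) by group, sq_eq_one hD.1 hd₀, sq_eq_one hD.1 he.1, mul_one]
  let σ : Equiv.Perm α := Function.Involutive.toPerm (fun x => ⟨j * x * j⁻¹, hD.2.1 j x x.2⟩) fun x =>
    Subtype.ext (by
      show j * (j * x * j⁻¹) * j⁻¹ = x
      rw [show j * (j * (x : G) * j⁻¹) * j⁻¹ = j * j * x * (j * j)⁻¹ by group, hj2, one_mul, inv_one, mul_one])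
  have hσ2 : ∀ x, σ (σ x) = x := fun x => (Function.Involutive.toPerm_involutive _) x
  have hσR : ∀ x y, R (σ x) (σ y) ↔ R x y := fun x y =>
    and_congr (not_congr ⟨fun k => mul_left_cancel (mul_right_cancel k),
      fun k => congrArg (fun z => j * z * j⁻¹) k⟩) (conj_commute_iff j _ _)
  obtain ⟨n, n', hn, hn'⟩ := SRGTrace.trace_conditions hsrg hdQ (Nat.cast_ne_zero.2 hdn0) σ hσ2 hσR
  have hmod : ((694 + (m : ℤ)) * ((dn : ℤ) - (180 - μ)) - (2 * 693 - (180 - μ) + dn)) % (2 * (dn : ℤ)) = 0 := by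
    refine Int.emod_eq_zero_of_dvd ⟨n, ?_⟩
    rw [hv, hm] at hn
    push_cast at hn
    have : (((694 + (m : ℤ)) * ((dn : ℤ) - (180 - μ)) - (2 * 693 - (180 - μ) + dn) : ℤ) : ℚ) =
        ((2 * (dn : ℤ) * n : ℤ) : ℚ) := by
      push_cast
      linear_combination hn
    exact_mod_cast this
  rcases decide_mu μ (by omega) ⟨m, hμm.symm⟩ (by rw [hdiv]; exact hm4) dn hdn2 (by rw [hdiv]; exact hmod)
    with h126 | ⟨h198, h48⟩
  · rw [h126] at hμm
    omega
  exfalso
  rw [h198] at hμm
  have hm' : m = 1792 := by omega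
  -- fixed members, and members moved to commuting ones
  let P : Set G := perp D d₀
  let Q : Set G := perp D e
  have hC : (P ∩ Q).ncard = 180 := ncard_common_commute hD hprim ht hd₀ he
  let Y : Set G := {y | y ∈ D ∧ ¬ Commute d₀ y ∧ ¬ Commute e y}
  have hfixed : ∀ y : G, y ∈ D → (j * y * j⁻¹ = y ↔ y = d₀ ∨ y = e ∨ y ∈ P ∩ Q) := by
    intro y hy
    rw [mul_inv_eq_iff_eq_mul]
    constructor
    · intro k
      have hw : Commute y [d₀, e].prod := by
        rw [List.prod_cons, List.prod_cons, List.prod_nil, mul_one, ← hjdef]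
        exact (show Commute j y from k).symm
      rcases weight hD.1 hy (l := [d₀, e])
        (fun z hz => by
          simp only [List.mem_cons, List.not_mem_nil, or_false] at hz
          rcases hz with rfl | rfl <;> [exact hd₀; exact he.1])
        (by simpa using Ne.symm he.2.1)
        (fun z hz t ht => by
          simp only [List.mem_cons, List.not_mem_nil, or_false] at hz ht
          rcases hz with rfl | rfl <;> rcases ht with rfl | rfl <;>
            first | exact Commute.refl _ | exact he.2.2 | exact he.2.2.symm) hw with hall | ⟨L, hL, h4', -⟩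
      · by_cases h1 : y = d₀
        · exact Or.inl h1
        by_cases h2 : y = e
        · exact Or.inr (Or.inl h2)
        exact Or.inr (Or.inr ⟨⟨hy, h1, (hall d₀ (by simp)).symm⟩, hy, h2, (hall e (by simp)).symm⟩)
      · have := hL.length_le
        simp at this
        omega
    · rintro (rfl | rfl | ⟨h1, h2⟩)
      · exact hjd.eq
      · exact hje.eq
      · exact (hjdef ▸ h1.2.2.mul_left h2.2.2 : Commute j y).eq
  have hfix : (Finset.univ.filter fun x : α => σ x = x).card = 182 := by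
    refine (hcard _ (insert d₀ (insert e (P ∩ Q))) (fun y hy => ?_) fun z => ?_).trans ?_
    · rcases hy with rfl | rfl | hy <;> [exact hd₀; exact he.1; exact hy.1.1]
    · rw [show σ z = z ↔ j * (z : G) * j⁻¹ = z from ⟨fun k => congrArg Subtype.val k, fun k => Subtype.ext k⟩,
        hfixed z z.2]
      rfl
    · rw [Set.ncard_insert_of_notMem, Set.ncard_insert_of_notMem, hC]
      · exact fun k => k.2.2.1 rfl
      · rintro (k | k)
        · exact he.2.1 k.symm
        · exact k.1.2.1 rfl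
  have hmoved : ∀ y : G, y ∈ D → ((j * y * j⁻¹ ≠ y ∧ Commute (j * y * j⁻¹) y) ↔ y ∈ Y) := by
    intro y hy
    constructor
    · rintro ⟨hne', hc⟩
      have hone : ∀ a b : G, a ∈ D → b ∈ D → j = b * a → Commute a y → ¬ Commute b y → False := by
        intro a b ha hb hjab hay hby
        have e1 : j * y * j⁻¹ = b * y * b⁻¹ := by
          rw [hjab, show b * a * y * (b * a)⁻¹ = b * (a * y * a⁻¹) * b⁻¹ by group, hay.eq, mul_inv_cancel_right]
        rw [e1, inv_eq hD.1 hb] at hc
        exact not_commute_third_right hD.1 hb hy hby hc.symm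
      refine ⟨hy, fun h1 => ?_, fun h2 => ?_⟩
      · by_cases h2 : Commute e y
        · exact hne' (mul_inv_eq_iff_eq_mul.2 (hjdef ▸ h1.mul_left h2 : Commute j y).eq)
        · exact hone d₀ e hd₀ he.1 (hjdef.trans he.2.2.eq) h1 h2
      · by_cases h1 : Commute d₀ y
        · exact hne' (mul_inv_eq_iff_eq_mul.2 (hjdef ▸ h1.mul_left h2 : Commute j y).eq)
        · exact hone e d₀ he.1 hd₀ hjdef h2 h1
    · rintro ⟨-, h1, h2⟩
      have := product_moves hD hd₀ he.1 (Ne.symm he.2.1) he.2.2 hy h1 (fun c => h2 c.symm)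
      rw [← hjdef] at this
      exact ⟨this.2, this.1⟩
  have hPQ : P ∪ Q ∪ Y = D := by
    ext y
    constructor
    · rintro ((k | k) | k) <;> exact k.1
    · intro hy
      by_cases h1 : Commute d₀ y
      · by_cases hq : y = d₀
        · exact Or.inl (Or.inr ⟨hy, hq ▸ Ne.symm he.2.1, hq ▸ he.2.2.symm⟩)
        · exact Or.inl (Or.inl ⟨hy, hq, h1⟩)
      · by_cases h2 : Commute e y
        · exact Or.inl (Or.inr ⟨hy, fun q => h1 (q ▸ he.2.2), h2⟩)
        · exact Or.inr ⟨hy, h1, h2⟩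
  have hY : Y.ncard = 1280 := by
    have h1 := Set.ncard_union_add_ncard_inter P Q
    rw [hC, show P.ncard = 693 from ncard_perp hD hprim ht hd₀,
      show Q.ncard = 693 from ncard_perp hD hprim ht he.1] at h1
    have h2 : (P ∪ Q ∪ Y).ncard = (P ∪ Q).ncard + Y.ncard := Set.ncard_union_eq (by
      rw [Set.disjoint_left]
      rintro y (k | k) hYy
      · exact hYy.2.1 k.2.2
      · exact hYy.2.2 k.2.2)
    rw [hPQ, hm, hm'] at h2
    omega
  have hN : (Finset.univ.filter fun x : α => R (σ x) x).card = 1280 := by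
    rw [← hY]
    exact hcard _ Y (fun y hy => hy.1) fun z => hmoved z z.2
  rw [hv, hm, hm', h198, h48] at hn
  rw [hfix, hN, h198, h48] at hn'
  norm_num at hn hn'
  have hnZ : (n : ℤ) = 1694 := by
    have : ((n : ℤ) : ℚ) = ((1694 : ℤ) : ℚ) := by push_cast; linarith
    exact_mod_cast this
  have : (2 * (n' : ℤ) - n) * 96 = 13120 := by
    have : (((2 * (n' : ℤ) - n) * 96 : ℤ) : ℚ) = ((13120 : ℤ) : ℚ) := by push_cast; linarith
    exact_mod_cast this
  omega

theorem natCard_centralizer {d : G} (hd : d ∈ D) : Nat.card (Subgroup.centralizer ({d} : Set G)) = 18393661440 := by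
  obtain ⟨F, _, _, hF, ⟨e⟩⟩ := exists_equiv_of_type22 hD hprim ht hd
  rw [centralizer_eq_closure hD hprim ht hd,
    Subgroup.card_eq_card_quotient_mul_card_subgroup (Subgroup.center (Subgroup.closure (perp D d))),
    Nat.card_congr e.toEquiv, natCard_psu_six hF, center_eq hD hprim ht hd,
    Nat.card_congr (Subgroup.subgroupOfEquivOfLe (Subgroup.zpowers_le.2 (mem_closure_perp hD hprim ht hd))).toEquiv,
    Nat.card_zpowers, hD.1.1 d hd]

theorem natCard_group : Nat.card G = 2 ^ 17 * 3 ^ 9 * 5 ^ 2 * 7 * 11 * 13 := by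
  obtain ⟨d, hd, -⟩ := id hprim.2.1
  let f : G ⧸ Subgroup.centralizer ({d} : Set G) → D := Quotient.lift (fun g => ⟨g * d * g⁻¹, hD.2.1 g d hd⟩)
    (fun a b hab => Subtype.ext (by
      have h := Subgroup.mem_centralizer_singleton_iff.1 (QuotientGroup.leftRel_apply.1 hab)
      calc a * d * a⁻¹ = a * (d * (a⁻¹ * b)) * b⁻¹ := by group
        _ = a * ((a⁻¹ * b) * d) * b⁻¹ := by rw [h]
        _ = b * d * b⁻¹ := by group))
  have hf : Function.Bijective f := by
    constructor
    · intro x y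
      obtain ⟨a, rfl⟩ := QuotientGroup.mk_surjective x
      obtain ⟨b, rfl⟩ := QuotientGroup.mk_surjective y
      intro k
      have k' : a * d * a⁻¹ = b * d * b⁻¹ := congrArg Subtype.val k
      refine QuotientGroup.eq.2 (Subgroup.mem_centralizer_singleton_iff.2 ?_)
      calc a⁻¹ * b * d = a⁻¹ * (b * d * b⁻¹) * b := by group
        _ = a⁻¹ * (a * d * a⁻¹) * b := by rw [k']
        _ = d * (a⁻¹ * b) := by group
    · rintro ⟨y, hy⟩
      obtain ⟨g, rfl⟩ := hprim.1 d hd y hy
      exact ⟨QuotientGroup.mk g, rfl⟩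
  rw [Subgroup.card_eq_card_quotient_mul_card_subgroup (Subgroup.centralizer ({d} : Set G)),
    Nat.card_eq_of_bijective f hf, Nat.card_coe_set_eq, ncard_eq hD hprim ht, natCard_centralizer hD hprim ht hd]
  norm_num

end CfsgLib.Fischer.Pre22
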