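import Cfsg.Agent.Lib.Fischer.M22Unique.Linear
import Cfsg.Agent.Lib.Fischer.TypeTwentyTwoCentralizer
import Cfsg.Agent.Lib.Fischer.M22Unique.Local
import Cfsg.Agent.Lib.Fischer.Pre22.Basic
import Cfsg.Agent.Lib.Fischer.Pre22.TypeTwentyTwoCount

/-!
The statements of `Fischer.M22Unique.Local` needed for the uniqueness of Fi22, for the weaker hypothesis `Pre22`.
-/

set_option autoImplicit false
set_option linter.all false

namespace CfsgLib.Fischer.Pre22

open CfsgLib.Fischer CfsgLib.Fischer.M22Unique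

open CfsgLib.Fischer CfsgLib.InvChar.FischerProducts CfsgLib.InvChar.FischerHexad

open CfsgLib.InvChar.UnitaryTVTwo

variable {G : Type*} [Group G] [Finite G] {D : Set G}

variable (hD : Cfsg.IsThreeTranspositionGroup D) (hprim : Cfsg.IsPrimitiveUnderConj D)
  (ht : Pre22 G D)

include hD hprim ht

/-- The points of the local group at `a`. -/
theorem exists_model {a : G} (ha : a ∈ D) :
    ∃ (F : Type) (_ : Field F) (_ : Fintype F) (hF : Fintype.card F = 4)
      (π : Subgroup.centralizer ({a} : Set G) →* Cfsg.PSU 6 F 2),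
      (∀ g, π g = 1 → (g : G) = 1 ∨ (g : G) = a) ∧
      (∀ g : Subgroup.centralizer ({a} : Set G), (g : G) = a → π g = 1) ∧
      (∀ x : Subgroup.centralizer ({a} : Set G), (x : G) ∈ perp D a →
        ∃ (v : Fin 6 → F) (hv : Cfsg.hermForm 6 F 2 v v = 0), v ≠ 0 ∧ π x = pv hF v hv) ∧
      (∀ (v : Fin 6 → F) (hv : Cfsg.hermForm 6 F 2 v v = 0), v ≠ 0 →
        ∃ x : Subgroup.centralizer ({a} : Set G), (x : G) ∈ perp D a ∧ π x = pv hF v hv) ∧
      (∀ x y : Subgroup.centralizer ({a} : Set G), (x : G) ∈ perp D a → (y : G) ∈ perp D a →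
        π x = π y → x = y) ∧
      (∀ x y : Subgroup.centralizer ({a} : Set G), (x : G) ∈ perp D a → (y : G) ∈ perp D a →
        ∀ (v w : Fin 6 → F) (hv : Cfsg.hermForm 6 F 2 v v = 0) (hw : Cfsg.hermForm 6 F 2 w w = 0),
          π x = pv hF v hv → π y = pv hF w hw → (Commute (x : G) y ↔ Cfsg.hermForm 6 F 2 v w = 0)) := by
  have hG := good_of_primitive hD hprim ht.1
  obtain ⟨F, _, _, hF, ⟨e⟩⟩ := exists_equiv_of_type22 hD hprim ht ha
  let H : Subgroup G := Subgroup.closure (perp D a)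
  obtain ⟨hT, hconj⟩ := image_tt hG ha (H := H) rfl e
  have hne := (memberSet_nonempty hD hprim ht ha).image (quotMap e)
  let φ := MulEquiv.subgroupCongr (centralizer_eq_closure hD hprim ht ha)
  have hmem : ∀ x : Subgroup.centralizer ({a} : Set G), (x : G) ∈ perp D a → φ x ∈ memberSet D a H :=
    fun _ h => h
  refine ⟨F, inferInstance, inferInstance, hF, (quotMap e).comp φ.toMonoidHom, ?_, ?_, ?_, ?_, ?_, ?_⟩
  · intro g hg
    have hz : φ g ∈ Subgroup.center H := (quotMap_eq_one e).1 hg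
    exact center_le hD hprim ht ha (φ g).2 fun x hx =>
      (congrArg Subtype.val (Subgroup.mem_center_iff.1 hz ⟨x, Subgroup.subset_closure hx⟩)).symm
  · intro g hg
    refine (quotMap_eq_one e).2 (Subgroup.mem_center_iff.2 fun x => Subtype.ext ?_)
    show (x : G) * g = g * x
    rw [hg]
    exact (commute_d (D := D) (d := a) (H := H) rfl x.2).eq.symm
  · intro x hx
    obtain ⟨v, hv, hv0, e'⟩ := exists_pv_of_mem hF (by norm_num) hT hconj ⟨φ x, hmem x hx, rfl⟩
    exact ⟨v, hv, hv0, e'⟩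
  · intro v hv hv0
    obtain ⟨x, hx, hxe⟩ := pv_mem hF (by norm_num) hT hconj hne hv hv0
    exact ⟨φ.symm x, hx, by
      rw [← hxe]
      exact congrArg (quotMap e) (φ.apply_symm_apply x)⟩
  · intro x y hx hy h
    exact φ.injective (quotMap_inj hG ha (H := H) rfl e (hmem x hx) (hmem y hy) h)
  · intro x y hx hy v w hv hw hxv hyw
    constructor
    · intro k
      refine herm_eq_zero_of_commute hF (by norm_num) hv hw ?_
      rw [← hxv, ← hyw]
      exact (show Commute x y from Subtype.ext k.eq).map _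
    · intro k
      refine commute_of_quotMap hG ha (H := H) rfl e (hmem x hx) (hmem y hy) ?_
      have := (tv_commute hF hv hw k).map (QuotientGroup.mk' (Subgroup.center _))
      change Commute (pv hF v hv) (pv hF w hw) at this
      rw [← hxv, ← hyw] at this
      exact this

/-- The member commuting with five of a chain of six; what centralises those five. -/
theorem exists_radical_member {a : G} (ha : a ∈ D) {x : Fin 6 → G} (hx : ∀ i, x i ∈ perp D a)
    (hc : ∀ i j : Fin 6, Commute (x i) (x j) ↔ ¬ ((i : ℕ) + 1 = j ∨ (j : ℕ) + 1 = i)) :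
    ∃ r ∈ perp D a, (∀ i : Fin 6, i ≠ 5 → Commute r (x i)) ∧ ¬ Commute r (x 5) ∧
      ∀ g, Commute g a → (∀ i : Fin 6, i ≠ 5 → Commute g (x i)) → g = 1 ∨ g = a ∨ g = r ∨ g = a * r := by
  obtain ⟨F, _, _, hF, π, hker, ha1, hpt, hsurj, hinj, hcm⟩ := exists_model hD hprim ht ha
  have hin : ∀ {y : G}, Commute y a → y ∈ Subgroup.centralizer ({a} : Set G) := fun h =>
    Subgroup.mem_centralizer_singleton_iff.2 h.eq
  let X : Fin 6 → Subgroup.centralizer ({a} : Set G) := fun i => ⟨x i, hin (hx i).2.2.symm⟩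
  choose v hv hv0 hXv using fun i => hpt (X i) (hx i)
  have hchain : IsChain v := fun i j =>
    (hcm (X i) (X j) (hx i) (hx j) _ _ (hv i) (hv j) (hXv i) (hXv j)).symm.trans (hc i j)
  obtain ⟨r, hr, hr0, hperp, h5, hclass⟩ := exists_radical hF hchain
  obtain ⟨R, hR, hRe⟩ := hsurj r hr hr0
  refine ⟨R, hR, fun i hi => (hcm R (X i) hR (hx i) _ _ hr (hv i) hRe (hXv i)).2 (hperp i hi),
    fun k => h5 ((hcm R (X 5) hR (hx 5) _ _ hr (hv 5) hRe (hXv 5)).1 k), fun g hga hg => ?_⟩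
  let Z : Subgroup.centralizer ({a} : Set G) := ⟨g, hin hga⟩
  have haa : a * a = 1 := sq_eq_one hD.1 ha
  rcases hclass (π Z) (fun i hi => by
      have := (show Commute Z (X i) from Subtype.ext (hg i hi).eq).map π
      rwa [hXv i] at this) with h | h
  · rcases hker Z h with h | h
    · exact Or.inl h
    · exact Or.inr (Or.inl h)
  · rw [← hRe] at h
    have : π (Z * R⁻¹) = 1 := by rw [map_mul, map_inv, h, mul_inv_cancel]
    rcases hker _ this with h | h
    · exact Or.inr (Or.inr (Or.inl (mul_inv_eq_one.1 h)))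
    · refine Or.inr (Or.inr (Or.inr ?_))
      have h' : g * (R : G)⁻¹ = a := h
      exact mul_inv_eq_iff_eq_mul.1 h'

/-- The member on the line of two commuting members that commutes with a third one joined to both. -/
theorem exists_mid {a u m w : G} (ha : a ∈ D) (hu : u ∈ perp D a) (hm : m ∈ perp D a) (hw : w ∈ perp D a)
    (huw : Commute u w) (hne : u ≠ w) (hum : ¬ Commute u m) (hwm : ¬ Commute w m) :
    ∃ z ∈ perp D a, Commute z u ∧ Commute z w ∧ Commute z m ∧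
      (∀ y ∈ perp D a, Commute y u → Commute y w → Commute y z) ∧
      (∀ y ∈ perp D a, Commute y w → ¬ Commute y u → ¬ Commute y z) ∧
      (∀ y ∈ perp D a, Commute y u → ¬ Commute y w → ¬ Commute y z) ∧
      (∀ y ∈ perp D a, ¬ Commute y u → ¬ Commute y z →
        ∀ g, Commute g a → Commute g u → Commute g y → Commute g z → Commute g w) := by
  obtain ⟨F, _, _, hF, π, hker, ha1, hpt, hsurj, hinj, hcm⟩ := exists_model hD hprim ht ha
  have hin : ∀ {y : G}, Commute y a → y ∈ Subgroup.centralizer ({a} : Set G) := fun h =>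
    Subgroup.mem_centralizer_singleton_iff.2 h.eq
  let U : Subgroup.centralizer ({a} : Set G) := ⟨u, hin hu.2.2.symm⟩
  let M : Subgroup.centralizer ({a} : Set G) := ⟨m, hin hm.2.2.symm⟩
  let W : Subgroup.centralizer ({a} : Set G) := ⟨w, hin hw.2.2.symm⟩
  obtain ⟨p, hp, hp0, hUp⟩ := hpt U hu
  obtain ⟨o, ho, ho0, hMo⟩ := hpt M hm
  obtain ⟨q, hq, hq0, hWq⟩ := hpt W hw
  have hpo : Cfsg.hermForm 6 F 2 p o ≠ 0 := fun k => hum ((hcm U M hu hm _ _ hp ho hUp hMo).2 k)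
  have hqo : Cfsg.hermForm 6 F 2 q o ≠ 0 := fun k => hwm ((hcm W M hw hm _ _ hq ho hWq hMo).2 k)
  have hpq : Cfsg.hermForm 6 F 2 p q = 0 := (hcm U W hu hw _ _ hp hq hUp hWq).1 huw
  have hqp : Cfsg.hermForm 6 F 2 q p = 0 := herm_zero_symm hF hpq
  obtain ⟨k, hk⟩ : ∃ k, k = -Cfsg.hermForm 6 F 2 p o / Cfsg.hermForm 6 F 2 q o := ⟨_, rfl⟩
  have hk0 : k ≠ 0 := by rw [hk]; exact div_ne_zero (neg_ne_zero.2 hpo) hqo
  obtain ⟨r, hr⟩ : ∃ r, r = (1 : F) • p + k • q := ⟨_, rfl⟩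
  have hrl : ∀ y, Cfsg.hermForm 6 F 2 r y = Cfsg.hermForm 6 F 2 p y + k * Cfsg.hermForm 6 F 2 q y := fun y => by
    rw [hr, (conj hF).add_left, (conj hF).smul_left, (conj hF).smul_left, one_mul]
  have hrp : Cfsg.hermForm 6 F 2 r p = 0 := by rw [hrl, hp, hqp]; ring
  have hrq : Cfsg.hermForm 6 F 2 r q = 0 := by rw [hrl, hpq, hq]; ring
  have hro : Cfsg.hermForm 6 F 2 r o = 0 := by rw [hrl, hk, div_mul_cancel₀ _ hqo]; ring
  have hrr : Cfsg.hermForm 6 F 2 r r = 0 := by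
    rw [hrl, herm_zero_symm hF hrp, herm_zero_symm hF hrq]; ring
  have hr0 : r ≠ 0 := by
    intro e
    refine hne (congrArg Subtype.val (hinj U W hu hw ?_))
    have hsm : p = (-k) • q := by
      rw [hr, one_smul] at e
      rw [neg_smul]
      exact eq_neg_of_add_eq_zero_left e
    rw [hUp, hWq, ← pv_smul hF (neg_ne_zero.2 hk0) hq (hsm ▸ hp)]
    exact pv_congr hF hp _ hsm
  obtain ⟨Z, hZ, hZr⟩ := hsurj r hrr hr0
  have hY : ∀ y ∈ perp D a, ∃ (t : Fin 6 → F) (_ : Cfsg.hermForm 6 F 2 t t = 0),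
      (Commute y (Z : G) ↔ Cfsg.hermForm 6 F 2 r t = 0) ∧ (Commute y u ↔ Cfsg.hermForm 6 F 2 p t = 0) ∧
        (Commute y w ↔ Cfsg.hermForm 6 F 2 q t = 0) := by
    intro y hy
    let Y : Subgroup.centralizer ({a} : Set G) := ⟨y, hin hy.2.2.symm⟩
    obtain ⟨t, ht', -, hYt⟩ := hpt Y hy
    exact ⟨t, ht',
      ⟨fun h => (hcm Z Y hZ hy _ _ hrr ht' hZr hYt).1 h.symm, fun h => ((hcm Z Y hZ hy _ _ hrr ht' hZr hYt).2 h).symm⟩,
      ⟨fun h => (hcm U Y hu hy _ _ hp ht' hUp hYt).1 h.symm, fun h => ((hcm U Y hu hy _ _ hp ht' hUp hYt).2 h).symm⟩,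
      ⟨fun h => (hcm W Y hw hy _ _ hq ht' hWq hYt).1 h.symm, fun h => ((hcm W Y hw hy _ _ hq ht' hWq hYt).2 h).symm⟩⟩
  refine ⟨Z, hZ, (hcm Z U hZ hu _ _ hrr hp hZr hUp).2 hrp, (hcm Z W hZ hw _ _ hrr hq hZr hWq).2 hrq,
    (hcm Z M hZ hm _ _ hrr ho hZr hMo).2 hro, ?_, ?_, ?_, ?_⟩
  · intro y hy h1 h2
    obtain ⟨t, -, e1, e2, e3⟩ := hY y hy
    rw [e1, hrl, e2.1 h1, e3.1 h2]; ring
  · intro y hy h1 h2
    obtain ⟨t, -, e1, e2, e3⟩ := hY y hy
    rw [e1, hrl, e3.1 h1, mul_zero, add_zero]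
    exact mt e2.2 h2
  · intro y hy h1 h2
    obtain ⟨t, -, e1, e2, e3⟩ := hY y hy
    rw [e1, hrl, e2.1 h1, zero_add]
    exact mul_ne_zero hk0 (mt e3.2 h2)
  · intro y hy hyu hyz g hga gu gy gz
    let S : Subgroup.centralizer ({a} : Set G) := ⟨y, hin hy.2.2.symm⟩
    let Y : Subgroup.centralizer ({a} : Set G) := ⟨g, hin hga⟩
    obtain ⟨t, ht', ht0, hSt⟩ := hpt S hy
    have hpt' : Cfsg.hermForm 6 F 2 p t ≠ 0 := fun k => hyu ((hcm U S hu hy _ _ hp ht' hUp hSt).2 k).symm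
    have hrt : Cfsg.hermForm 6 F 2 r t ≠ 0 := fun k => hyz ((hcm Z S hZ hy _ _ hrr ht' hZr hSt).2 k).symm
    have c1 := (show Commute Y U from Subtype.ext gu.eq).map π
    have c2 := (show Commute Y S from Subtype.ext gy.eq).map π
    have c3 := (show Commute Y Z from Subtype.ext gz.eq).map π
    rw [hUp] at c1
    rw [hSt] at c2
    rw [hZr] at c3
    have hq' : q = (-k⁻¹) • p + k⁻¹ • r := by
      rw [hr, one_smul, smul_add, smul_smul, inv_mul_cancel₀ hk0, one_smul, ← add_assoc, ← add_smul,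
        neg_add_cancel, zero_smul, zero_add]
    have hz := commute_span hF hp ht' hrr hp0 ht0 hr0 hpt' hrt c1 c2 c3 (p := -k⁻¹) (q := k⁻¹) (hq' ▸ hq)
    rw [← pv_congr hF hq _ hq', ← hWq] at hz
    have h1 : π (Y * W * Y⁻¹) = π W := by
      rw [map_mul, map_mul, map_inv, hz.eq, mul_inv_cancel_right]
    have hYW : (Y * W * Y⁻¹ : Subgroup.centralizer ({a} : Set G)).1 ∈ perp D a :=
      (TypeTwentyTwo.conj_mem_perp_iff hD hga).2 hw
    exact mul_inv_eq_iff_eq_mul.1 (congrArg Subtype.val (hinj _ W hYW hw h1))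

end CfsgLib.Fischer.Pre22
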