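import Cfsg.Agent.Lib.Fischer.PairThree.Common
import Cfsg.Agent.Lib.Fischer.PairThree.Generic
import Cfsg.Agent.Lib.Fischer.PairThree.Graph
import Cfsg.Agent.Lib.Fischer.Pre22.Basic
import Cfsg.Agent.Lib.Fischer.Pre22.Common

/-!
The statements of `Fischer.PairThree.Graph` needed for the uniqueness of Fi22, for the weaker hypothesis `Pre22`.
-/

set_option autoImplicit false
set_option linter.all false

namespace CfsgLib.Fischer.Pre22

open CfsgLib.Fischer CfsgLib.Fischer.PairThree

open CfsgLib.Fischer CfsgLib.InvChar.FischerProducts CfsgLib.InvChar.FischerHexad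

open CfsgLib.Fischer.FortyFive

variable {G : Type*} [Group G] {D : Set G} {a d f : G}

variable [Finite G]

variable (hD : Cfsg.IsThreeTranspositionGroup D) (hprim : Cfsg.IsPrimitiveUnderConj D)
  (ht : Pre22 G D) (ha : a ∈ D) (hd : d ∈ D) (had : ¬ Commute a d)

include hD hprim ht ha hd had

/-- At most 137 common neighbours (there are 126). -/
theorem ncard_common_le : (common D a d).ncard ≤ 137 := by
  classical
  let _ : Fintype G := Fintype.ofFinite G
  let S : Finset G := (Set.toFinite {y : G | y ∈ D ∧ ¬ Commute a y}).toFinset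
  let P : Finset G := (Set.toFinite (perp D a)).toFinset
  have hP : P.card = 693 := by
    rw [← Set.ncard_eq_toFinset_card, ncard_perp hD hprim ht ha]
  have hS : S.card = 2816 := by
    rw [← Set.ncard_eq_toFinset_card]
    have hu : D = insert a (perp D a) ∪ {y : G | y ∈ D ∧ ¬ Commute a y} := by
      ext y
      simp only [perp, Set.mem_union, Set.mem_insert_iff, Set.mem_setOf_eq]
      by_cases hy : y ∈ D <;> by_cases hc : Commute a y <;> by_cases he : y = a <;> simp_all
    have hdis : Disjoint (insert a (perp D a)) {y : G | y ∈ D ∧ ¬ Commute a y} := by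
      rw [Set.disjoint_left]
      rintro y (rfl | hy) ⟨-, hn⟩
      · exact hn (Commute.refl y)
      · exact hn hy.2.2
    have h := congrArg Set.ncard hu
    rw [Set.ncard_union_eq hdis, ncard_eq hD hprim ht,
      Set.ncard_insert_of_notMem (fun h => h.2.1 rfl), ncard_perp hD hprim ht ha] at h
    omega
  have hrow : ∀ y ∈ S, (P.filter fun z => Commute y z).card = (common D a d).ncard := by
    intro y hy
    simp only [S, Set.Finite.mem_toFinset, Set.mem_setOf_eq] at hy
    rw [ncard_common_const hD hprim ht ha hd had ha hy.1 hy.2, ← Set.ncard_coe_finset]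
    congr 1
    ext z
    simp only [Finset.coe_filter, P, Set.Finite.mem_toFinset, perp, common, Set.mem_setOf_eq]
    exact ⟨fun h => ⟨h.1.1, h.1.2.1, h.1.2.2, h.2⟩, fun h => ⟨⟨h.1, h.2.1, h.2.2.1⟩, h.2.2.2⟩⟩
  have hcol : ∀ z ∈ P, (S.filter fun y => Commute y z).card ≤ 512 := by
    intro z hz
    simp only [P, Set.Finite.mem_toFinset] at hz
    have hsub : ((S.filter fun y => Commute y z : Finset G) : Set G) ⊆
        perp D z \ insert a (perp D z ∩ perp D a) := by
      intro y hy
      simp only [Finset.coe_filter, S, Set.Finite.mem_toFinset, Set.mem_setOf_eq] at hy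
      refine ⟨⟨hy.1.1, fun k => hy.1.2 (k ▸ hz.2.2), hy.2.symm⟩, ?_⟩
      rintro (k | k)
      · exact hy.1.2 (k ▸ Commute.refl a)
      · exact hy.1.2 k.2.2.2
    have h := Set.ncard_le_ncard hsub
    rw [Set.ncard_coe_finset] at h
    refine h.trans ?_
    have haz : a ∈ perp D z := ⟨ha, Ne.symm hz.2.1, hz.2.2.symm⟩
    rw [Set.ncard_sdiff (Set.insert_subset haz Set.inter_subset_left),
      Set.ncard_insert_of_notMem (fun k => k.2.2.1 rfl), Set.inter_comm,
      ncard_common_commute hD hprim ht ha hz, ncard_perp hD hprim ht hz.1]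
  have h := Finset.sum_card_bipartiteAbove_eq_sum_card_bipartiteBelow (s := S) (t := P) (fun y z => Commute y z)
  simp only [Finset.bipartiteAbove, Finset.bipartiteBelow] at h
  rw [Finset.sum_congr rfl hrow, Finset.sum_const, hS, smul_eq_mul] at h
  have h2 : 2816 * (common D a d).ncard ≤ 693 * 512 := by
    rw [h]
    refine (Finset.sum_le_card_nsmul P _ 512 hcol).trans ?_
    rw [hP, smul_eq_mul]
  omega

theorem card_joined {x : G} (hx : x ∈ common D a d) : 46 ≤ {y : G | Joined D a d x y}.ncard := by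
  obtain ⟨g, hinj, hr, -, -, -⟩ := exists_points_at hD hprim ht ha hd had hx
  have hsub : insert x (Set.range g) ⊆ {y : G | Joined D a d x y} := by
    rintro y (rfl | hy)
    · exact Relation.ReflTransGen.refl
    · rw [hr] at hy
      exact Relation.ReflTransGen.single ⟨hy.1, hy.2.2.2⟩
  have h := Set.ncard_le_ncard hsub
  have hni : x ∉ Set.range g := by rw [hr]; exact fun k => k.2.2.1 rfl
  rwa [Set.ncard_insert_of_notMem hni, Set.ncard_range_of_injective hinj, Nat.card_fin] at h

/-- The commuting graph on the common neighbours is connected. -/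
theorem joined {h : G} (hf : f ∈ common D a d) (hh : h ∈ common D a d) : Joined D a d f h := by
  by_contra hn
  have hfh : ¬ Commute f h := fun k => hn (Relation.ReflTransGen.single ⟨hh, k⟩)
  have hcent : ∀ {k : G}, k ∈ common D a d → Commute k a ∧ Commute k d := fun hk => ⟨hk.2.2.1.symm, hk.2.2.2.symm⟩
  obtain ⟨h', hh'def⟩ : ∃ h', h' = h * f * h⁻¹ := ⟨_, rfl⟩
  have hh' : h' ∈ common D a d := hh'def ▸ conj_mem_common hD (hcent hh).1 (hcent hh).2 hf
  -- `h'` is not joined to `h`
  have h1 : ¬ Joined D a d h h' := fun k => by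
    have := joined_conj hD (hcent hh).1 (hcent hh).2 k
    rw [mul_inv_cancel_right, hh'def, show h * (h * f * h⁻¹) * h⁻¹ = (h * h) * f * (h * h)⁻¹ by group,
      sq_eq_one hD.1 hh.1, one_mul, inv_one, mul_one] at this
    exact hn (joined_symm hh this).1
  -- nor to `f`
  have h2 : ¬ Joined D a d f h' := fun k => by
    obtain ⟨g, -, hr, -, -, -⟩ := exists_points_at hD hprim ht ha hd had hf
    have hg : g 0 ∈ common D a d ∩ perp D f := hr ▸ Set.mem_range_self 0
    have hfg : Commute f (g 0) := hg.2.2.2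
    have hhg : ¬ Commute h (g 0) := fun c =>
      hn ((joined_step hg.1 hfg).trans (joined_step hh c.symm))
    have ht' := joined_conj hD (hcent hg.1).1 (hcent hg.1).2 k
    rw [← hfg.eq, mul_inv_cancel_right] at ht'
    obtain ⟨φ, -, e1, e2, e3⟩ := SymFour.exists_injective_of_string hD.1 hg.1.1 hh.1 hf.1 hg.2.2.1 hfg.symm
      (fun c => hhg c.symm) (fun c => hfh c.symm)
    have hc : Commute (g 0 * h' * (g 0)⁻¹) h := by
      rw [hh'def, ← e1, ← e2, ← e3, ← map_inv, ← map_mul, ← map_mul, ← map_inv, ← map_mul, ← map_mul]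
      exact (show Commute (Equiv.swap (0 : Fin 4) 1 * (Equiv.swap 1 2 * Equiv.swap 2 3 * (Equiv.swap 1 2)⁻¹) *
        (Equiv.swap 0 1)⁻¹) (Equiv.swap 1 2) by unfold Commute SemiconjBy; decide).map φ
    exact hn (ht'.trans (joined_step hh hc))
  have hd1 : Disjoint {y | Joined D a d f y} {y | Joined D a d h y} := Set.disjoint_left.2 fun y k l =>
    hn (k.trans (joined_symm hh l).1)
  have hd2 : Disjoint ({y | Joined D a d f y} ∪ {y | Joined D a d h y}) {y | Joined D a d h' y} :=
    Set.disjoint_left.2 fun y k l => by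
      rcases k with k | k
      · exact h2 (k.trans (joined_symm hh' l).1)
      · exact h1 (k.trans (joined_symm hh' l).1)
  have hsub : {y | Joined D a d f y} ∪ {y | Joined D a d h y} ∪ {y | Joined D a d h' y} ⊆ common D a d := by
    rintro y ((k | k) | k) <;> [exact (joined_symm hf k).2; exact (joined_symm hh k).2; exact (joined_symm hh' k).2]
  have := Set.ncard_le_ncard hsub
  rw [Set.ncard_union_eq hd2, Set.ncard_union_eq hd1] at this
  have := card_joined hD hprim ht ha hd had hf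
  have := card_joined hD hprim ht ha hd had hh
  have := card_joined hD hprim ht ha hd had hh'
  have := ncard_common_le hD hprim ht ha hd had
  omega

/-- Two non-commuting common neighbours have a shared neighbour among the common neighbours. -/
theorem exists_shared {h : G} (hf : f ∈ common D a d) (hh : h ∈ common D a d) (hfh : ¬ Commute f h) :
    ∃ c ∈ common D a d, Commute c f ∧ Commute c h := by
  by_contra hn
  push Not at hn
  have key : ∀ y, Joined D a d h y → ∃ k ∈ Subgroup.closure (common D a d), Commute k f ∧ k * h * k⁻¹ = y := by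
    intro y hy
    induction hy with
    | refl => exact ⟨1, one_mem _, Commute.one_left f, by group⟩
    | @tail x y _ hs ih =>
      obtain ⟨k, hk, hkf, rfl⟩ := ih
      obtain ⟨hka, hkd⟩ := mem_centralizer_pair (closure_common_le hk)
      have hx : k * h * k⁻¹ ∈ common D a d := conj_mem_common hD hka hkd hh
      have hfx : ¬ Commute f (k * h * k⁻¹) := fun c => hfh ((conj_commute_iff k f h).1 (by
        rwa [hkf.eq, mul_inv_cancel_right]))
      by_cases hfy : Commute f y
      · have hc : k⁻¹ * y * k⁻¹⁻¹ ∈ common D a d := conj_mem_common hD hka.inv_left hkd.inv_left hs.1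
        refine absurd ?_ (hn _ hc ?_)
        · have := (conj_commute_iff k⁻¹ _ _).2 hs.2.symm
          rwa [show k⁻¹ * (k * h * k⁻¹) * k⁻¹⁻¹ = h by group] at this
        · have := (conj_commute_iff k⁻¹ _ _).2 hfy.symm
          rwa [hkf.inv_left.eq, mul_inv_cancel_right] at this
      · obtain ⟨l, hl, hlf, hly⟩ := exists_swap_ends hD.1 hx.1 hf.1 hs.1.1 hfx hfy hs.2
        refine ⟨l * k, mul_mem ?_ hk, hlf.mul_left hkf, by rw [← hly]; group⟩
        refine (Subgroup.closure_le _).2 ?_ hl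
        rintro z (rfl | rfl | rfl) <;>
          first | exact Subgroup.subset_closure hx | exact Subgroup.subset_closure hf | exact Subgroup.subset_closure hs.1
  obtain ⟨k, -, hkf, hkh⟩ := key f (joined hD hprim ht ha hd had hh hf)
  exact hfh ((conj_commute_iff k f h).1 (by rw [hkf.eq, mul_inv_cancel_right, hkh]))

/-- The common neighbours commuting with one of them are conjugate by elements fixing it. -/
theorem exists_move_in_frame {c x y : G} (hc : c ∈ common D a d) (hx : x ∈ common D a d ∩ perp D c)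
    (hy : y ∈ common D a d ∩ perp D c) :
    ∃ k ∈ Subgroup.closure (common D a d), Commute k c ∧ k * x * k⁻¹ = y := by
  obtain ⟨g, -, hr, hcomm, -, -⟩ := exists_points_at hD hprim ht ha hd had hc
  rw [← hr] at hx hy
  obtain ⟨i, rfl⟩ := hx
  obtain ⟨j, rfl⟩ := hy
  have hmem : ∀ i, g i ∈ common D a d ∩ perp D c := fun i => hr ▸ Set.mem_range_self i
  have step : ∀ i j : Fin 45, hT (pt i) (pt j) ≠ 0 →
      ∃ k ∈ Subgroup.closure (common D a d), Commute k c ∧ k * g i * k⁻¹ = g j := by
    intro i j hij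
    refine ⟨g i * g j, mul_mem (Subgroup.subset_closure (hmem i).1) (Subgroup.subset_closure (hmem j).1),
      (hmem i).2.2.2.symm.mul_left (hmem j).2.2.2.symm, ?_⟩
    have hb := braid hD.1 (hmem i).1.1 (hmem j).1.1 fun k => hij ((hcomm i j).1 k)
    calc g i * g j * g i * (g i * g j)⁻¹ = (g i * g j * g i) * (g j)⁻¹ * (g i)⁻¹ := by group
      _ = (g j * g i * g j) * (g j)⁻¹ * (g i)⁻¹ := by rw [hb]
      _ = g j := by group
  obtain ⟨m, h1, h2⟩ := exists_common_nonperp i j
  obtain ⟨k, hk, hkc, hkm⟩ := step i m h1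
  obtain ⟨l, hl, hlc, hlm⟩ := step m j h2
  exact ⟨l * k, mul_mem hl hk, hlc.mul_left hkc, by rw [← hlm, ← hkm]; group⟩

/-- Non-commuting members of one frame, with the same first one, are conjugate fixing it. -/
theorem exists_move_frame_second {c x y y' : G} (hc : c ∈ common D a d) (hx : x ∈ common D a d ∩ perp D c)
    (hy : y ∈ common D a d ∩ perp D c) (hy' : y' ∈ common D a d ∩ perp D c) (hxy : ¬ Commute x y)
    (hxy' : ¬ Commute x y') :
    ∃ k ∈ Subgroup.closure (common D a d), Commute k x ∧ k * y * k⁻¹ = y' := by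
  obtain ⟨g, -, hr, hcomm, -, -⟩ := exists_points_at hD hprim ht ha hd had hc
  have hmem : ∀ i, g i ∈ common D a d ∩ perp D c := fun i => hr ▸ Set.mem_range_self i
  obtain ⟨l, hl, hlc, hlx⟩ := exists_move_in_frame hD hprim ht ha hd had hc hx (hmem 0)
  obtain ⟨hla, hld⟩ := mem_centralizer_pair (closure_common_le hl)
  have trans' : ∀ x y z : G,
      (∃ k ∈ Subgroup.closure (common D a d), Commute k (g 0) ∧ k * x * k⁻¹ = y) →
      (∃ k ∈ Subgroup.closure (common D a d), Commute k (g 0) ∧ k * y * k⁻¹ = z) →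
      ∃ k ∈ Subgroup.closure (common D a d), Commute k (g 0) ∧ k * x * k⁻¹ = z := by
    rintro x y z ⟨k, hk, hk', rfl⟩ ⟨l, hl, hl', rfl⟩
    exact ⟨l * k, mul_mem hl hk, hl'.mul_left hk', by group⟩
  have step : ∀ i j : Fin 45, hT (pt (0 : Fin 45)) (pt i) ≠ 0 → hT (pt (0 : Fin 45)) (pt j) ≠ 0 → hT (pt i) (pt j) = 0 →
      ∃ k ∈ Subgroup.closure (common D a d), Commute k (g 0) ∧ k * g i * k⁻¹ = g j := by
    intro i j hi hj hij
    obtain ⟨k, hk, hk0, hkj⟩ := exists_swap_ends hD.1 (hmem i).1.1 (hmem 0).1.1 (hmem j).1.1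
      (fun k => hi ((hcomm 0 i).1 k)) (fun k => hj ((hcomm 0 j).1 k)) ((hcomm i j).2 hij)
    refine ⟨k, (Subgroup.closure_le _).2 ?_ hk, hk0, hkj⟩
    rintro z (rfl | rfl | rfl) <;> exact Subgroup.subset_closure (hmem _).1
  have hone : ∀ j : Fin 45, hT (pt (0 : Fin 45)) (pt j) ≠ 0 →
      ∃ k ∈ Subgroup.closure (common D a d), Commute k (g 0) ∧ k * g 1 * k⁻¹ = g j := by
    intro j hj
    rcases path j hj with rfl | h | ⟨m, hm, h1, h2⟩ | ⟨m, hm, h1, m', hm', h2, h3⟩
    · exact ⟨1, one_mem _, Commute.one_left _, by group⟩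
    · exact step 1 j pt_zero_one hj h
    · exact trans' _ _ _ (step 1 m pt_zero_one hm h1) (step m j hm hj h2)
    · exact trans' _ _ _ (trans' _ _ _ (step 1 m pt_zero_one hm h1) (step m m' hm hm' h2)) (step m' j hm' hj h3)
  have himg : ∀ z ∈ common D a d ∩ perp D c, ¬ Commute x z →
      ∃ j, g j = l * z * l⁻¹ ∧ hT (pt (0 : Fin 45)) (pt j) ≠ 0 := by
    intro z hz hxz
    have hz' : l * z * l⁻¹ ∈ Set.range g := by
      rw [hr]
      exact ⟨conj_mem_common hD hla hld hz.1, (TypeTwentyTwo.conj_mem_perp_iff hD hlc).2 hz.2⟩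
    obtain ⟨j, hj⟩ := hz'
    refine ⟨j, hj, fun k => hxz ((conj_commute_iff l x z).1 ?_)⟩
    rw [hlx, ← hj]
    exact (hcomm 0 j).2 k
  obtain ⟨i, hi, hi0⟩ := himg y hy hxy
  obtain ⟨j, hj, hj0⟩ := himg y' hy' hxy'
  obtain ⟨k, hk, hk0, hkj⟩ : ∃ k ∈ Subgroup.closure (common D a d), Commute k (g 0) ∧ k * g i * k⁻¹ = g j := by
    refine trans' _ (g 1) _ ?_ (hone j hj0)
    obtain ⟨k, hk, hk0, hki⟩ := hone i hi0
    exact ⟨k⁻¹, inv_mem hk, hk0.inv_left, by rw [← hki]; group⟩
  refine ⟨l⁻¹ * k * l, mul_mem (mul_mem (inv_mem hl) hk) hl, ?_, ?_⟩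
  · refine mul_inv_eq_iff_eq_mul.1 ?_
    rw [show l⁻¹ * k * l * x * (l⁻¹ * k * l)⁻¹ = l⁻¹ * (k * (l * x * l⁻¹) * k⁻¹) * l by group, hlx, hk0.eq,
      mul_inv_cancel_right, ← hlx]
    group
  · rw [show l⁻¹ * k * l * y * (l⁻¹ * k * l)⁻¹ = l⁻¹ * (k * (l * y * l⁻¹) * k⁻¹) * l by group, ← hi, hkj, hj]
    group

/-- The centralizer of the pair is transitive on the non-commuting pairs of common neighbours. -/
theorem exists_conj_pair {h f' h' : G} (hf : f ∈ common D a d) (hh : h ∈ common D a d) (hfh : ¬ Commute f h)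
    (hf' : f' ∈ common D a d) (hh' : h' ∈ common D a d) (hfh' : ¬ Commute f' h') :
    ∃ k ∈ Subgroup.closure (common D a d), k * f * k⁻¹ = f' ∧ k * h * k⁻¹ = h' := by
  obtain ⟨k, hk, hkf⟩ := exists_conj hD hprim ht ha hd had hf hf'
  obtain ⟨hka, hkd⟩ := mem_centralizer_pair (closure_common_le hk)
  have hh₂ : k * h * k⁻¹ ∈ common D a d := conj_mem_common hD hka hkd hh
  have hfh₂ : ¬ Commute f' (k * h * k⁻¹) := fun c => hfh ((conj_commute_iff k f h).1 (hkf ▸ c))
  obtain ⟨c, hc, hcf, hch⟩ := exists_shared hD hprim ht ha hd had hf' hh₂ hfh₂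
  obtain ⟨c', hc', hcf', hch'⟩ := exists_shared hD hprim ht ha hd had hf' hh' hfh'
  have hne : ∀ c h : G, ¬ Commute f' h → Commute c f' → Commute c h → c ≠ f' ∧ c ≠ h :=
    fun c h hn h1 h2 => ⟨fun e => hn (e ▸ h2), fun e => hn (e ▸ h1).symm⟩
  obtain ⟨n1, n2⟩ := hne c _ hfh₂ hcf hch
  obtain ⟨n1', n2'⟩ := hne c' h' hfh' hcf' hch'
  obtain ⟨l, hl, hlf, hlc⟩ := exists_move_in_frame hD hprim ht ha hd had hf'
    (x := c) (y := c') ⟨hc, hc.1, n1, hcf.symm⟩ ⟨hc', hc'.1, n1', hcf'.symm⟩
  obtain ⟨hla, hld⟩ := mem_centralizer_pair (closure_common_le hl)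
  have hh₃ : l * (k * h * k⁻¹) * l⁻¹ ∈ common D a d ∩ perp D c' := by
    refine ⟨conj_mem_common hD hla hld hh₂, ?_⟩
    have := CfsgLib.InvChar.FischerHexad.perp_conj hD l (a := c) (b := k * h * k⁻¹) ⟨hh₂.1, Ne.symm n2, hch⟩
    rwa [MulAut.conj_apply, MulAut.conj_apply, hlc] at this
  have hfh₃ : ¬ Commute f' (l * (k * h * k⁻¹) * l⁻¹) := fun c => hfh₂ ((conj_commute_iff l _ _).1 (by
    rwa [hlf.eq, mul_inv_cancel_right]))
  obtain ⟨m, hm, hmf, hmh⟩ := exists_move_frame_second hD hprim ht ha hd had hc'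
    (x := f') ⟨hf', hf'.1, Ne.symm n1', hcf'⟩ hh₃ ⟨hh', hh'.1, Ne.symm n2', hch'⟩ hfh₃ hfh'
  refine ⟨m * l * k, mul_mem (mul_mem hm hl) hk, ?_, by rw [← hmh]; group⟩
  rw [show m * l * k * f * (m * l * k)⁻¹ = m * (l * (k * f * k⁻¹) * l⁻¹) * m⁻¹ by group, hkf, hlf.eq,
    mul_inv_cancel_right, hmf.eq, mul_inv_cancel_right]

end CfsgLib.Fischer.Pre22
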